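import Groth.Agent.KFlatLib.Scheme.TensorStalk
import Groth.Agent.KFlatLib.Scheme.Pullback
import Groth.Prelude.Def_FlatMod2
import Groth.Prelude.Def_CohB1
import Mathlib.RingTheory.Flat.FaithfullyFlat.Basic
import Mathlib.RingTheory.LocalRing.RingHom.Basic

/-!
Flatness over the base of `M ⊗ q^*G` for `M` flat over the target of `q`.
-/

set_option autoImplicit false
set_option linter.style.haveILetI false
set_option backward.isDefEq.respectTransparency false
set_option backward.isDefEq.respectTransparency.types false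

universe u

open CategoryTheory AlgebraicGeometry TensorProduct

namespace Groth.Agent.H4TensorS

section Alg

variable {R A P G : Type u} [CommRing R] [CommRing A] [Algebra R A] [AddCommGroup P] [Module A P] [Module R P]
  [IsScalarTower R A P] [AddCommGroup G] [Module A G] [Module R G] [IsScalarTower R A G]

theorem assoc_lTensor {U V : Type u} [AddCommGroup U] [Module R U] [AddCommGroup V] [Module R V] (i : U →ₗ[R] V)
    (z : (P ⊗[A] G) ⊗[R] U) :
    i.lTensor (P ⊗[A] G) z = (AlgebraTensorModule.assoc R A A P G V).symm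
      ((AlgebraTensorModule.lTensor A G i).lTensor P (AlgebraTensorModule.assoc R A A P G U z)) := by
  induction z using TensorProduct.induction_on with
  | zero => simp
  | add a b ha hb => simp only [map_add, ha, hb]
  | tmul w k =>
    induction w using TensorProduct.induction_on with
    | zero => simp
    | add a b ha hb => simp only [TensorProduct.add_tmul, map_add, ha, hb]
    | tmul l p => simp

theorem flat_tensor [Module.Flat A P] [Module.Flat R G] : Module.Flat R (P ⊗[A] G) := by
  refine Module.Flat.iff_lTensor_preserves_injective_linearMap.mpr fun U V _ _ _ _ i hi => ?_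
  have h1 : Function.Injective (AlgebraTensorModule.lTensor A G i) :=
    Module.Flat.lTensor_preserves_injective_linearMap (M := G) i hi
  have h2 : Function.Injective ((AlgebraTensorModule.lTensor A G i).lTensor P) :=
    Module.Flat.lTensor_preserves_injective_linearMap _ h1
  intro a b hab
  rw [assoc_lTensor, assoc_lTensor] at hab
  exact (AlgebraTensorModule.assoc R A A P G U).injective
    (h2 ((AlgebraTensorModule.assoc R A A P G V).symm.injective hab))

theorem flat_of_tensor [Module.FaithfullyFlat A P] [Module.Flat R (P ⊗[A] G)] : Module.Flat R G := by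
  refine Module.Flat.iff_lTensor_preserves_injective_linearMap.mpr fun U V _ _ _ _ i hi => ?_
  rw [← AlgebraTensorModule.coe_lTensor (A := A), ← Module.FaithfullyFlat.lTensor_injective_iff_injective A P]
  intro a b hab
  apply (AlgebraTensorModule.assoc R A A P G U).symm.injective
  apply Module.Flat.lTensor_preserves_injective_linearMap (M := P ⊗[A] G) i hi
  rw [assoc_lTensor, assoc_lTensor, LinearEquiv.apply_symm_apply, LinearEquiv.apply_symm_apply, hab]

theorem smul_top_eq_map (I : Ideal R) :
    (I • ⊤ : Submodule R G) = ((I.map (algebraMap R A)) • ⊤ : Submodule A G).restrictScalars R := by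
  rw [Ideal.smul_restrictScalars]
  rfl

theorem smul_top_ne_top_of_tensor (I : Ideal R) (h : (I • ⊤ : Submodule R (P ⊗[A] G)) ≠ ⊤) :
    (I • ⊤ : Submodule R G) ≠ ⊤ := by
  intro hG
  refine h (top_le_iff.1 fun z _ => ?_)
  induction z using TensorProduct.induction_on with
  | zero => exact zero_mem _
  | add a b ha hb => exact add_mem (ha trivial) (hb trivial)
  | tmul p g =>
    have hg : g ∈ (I • ⊤ : Submodule R G) := by rw [hG]; trivial
    refine Submodule.smul_induction_on hg (fun r hr g _ => ?_) fun a b ha hb => by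
      rw [tmul_add]; exact add_mem ha hb
    rw [← IsScalarTower.algebraMap_smul A r g, tmul_smul, IsScalarTower.algebraMap_smul]
    exact Submodule.smul_mem_smul hr trivial

theorem smul_top_ne_top_tensor [Module.FaithfullyFlat A P] (I : Ideal R) (h : (I • ⊤ : Submodule R G) ≠ ⊤) :
    (I • ⊤ : Submodule R (P ⊗[A] G)) ≠ ⊤ := by
  intro hT
  let N : Submodule A G := (I.map (algebraMap R A)) • ⊤
  have hN : N ≠ ⊤ := fun hN => h (by rw [smul_top_eq_map (A := A) I]; simp [N] at hN; simp [hN])
  haveI : Nontrivial (G ⧸ N) := Submodule.Quotient.nontrivial_iff.2 hN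
  haveI : Nontrivial (P ⊗[A] (G ⧸ N)) :=
    (Module.FaithfullyFlat.nontrivial_tensorProduct_iff_right (R := A) (M := P) (N := G ⧸ N)).2 inferInstance
  obtain ⟨w, hw⟩ := exists_ne (0 : P ⊗[A] (G ⧸ N))
  obtain ⟨z, rfl⟩ := LinearMap.lTensor_surjective P N.mkQ_surjective w
  refine hw ?_
  have hz : z ∈ (I • ⊤ : Submodule R (P ⊗[A] G)) := by rw [hT]; trivial
  refine Submodule.smul_induction_on hz (fun r hr t _ => ?_) fun a b ha hb => by rw [map_add, ha, hb, add_zero]
  rw [← IsScalarTower.algebraMap_smul A r t, map_smul]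
  generalize N.mkQ.lTensor P t = s
  induction s using TensorProduct.induction_on with
  | zero => exact smul_zero _
  | add a b ha hb => rw [smul_add, ha, hb, add_zero]
  | tmul p g =>
    obtain ⟨g, rfl⟩ := Submodule.Quotient.mk_surjective _ g
    rw [TensorProduct.smul_tmul', TensorProduct.smul_tmul, ← Submodule.Quotient.mk_smul,
      (Submodule.Quotient.mk_eq_zero N).2 (Submodule.smul_mem_smul (Ideal.mem_map_of_mem _ hr) trivial),
      TensorProduct.tmul_zero]

theorem faithfullyFlat_of_smul_ne_top {A P : Type u} [CommRing A] [IsLocalRing A] [AddCommGroup P] [Module A P]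
    [Module.Flat A P] (h : (IsLocalRing.maximalIdeal A • ⊤ : Submodule A P) ≠ ⊤) :
    Module.FaithfullyFlat A P :=
  { submodule_ne_top := fun m hm => by rw [IsLocalRing.eq_maximalIdeal hm]; exact h }

end Alg

section Sch

variable {W Y Z : Scheme.{u}} (q : W ⟶ Y) (h : Y ⟶ Z) (P : W.Modules) (G : Y.Modules) (w : W)

/-- The stalk of `P ⊗ q^*G` over the base. -/
theorem exists_stalk_equiv :
    letI := (q.stalkMap w).hom.toAlgebra
    letI := (h.stalkMap (q w)).hom.toAlgebra
    letI := FlatMod.moduleStalkOver q P w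
    letI := FlatMod.moduleStalkOver h G (q w)
    letI : Module (Z.presheaf.stalk (h (q w))) (P.presheaf.stalk w) := FlatMod.moduleStalkOver (q ≫ h) P w
    letI : Module (Z.presheaf.stalk (h (q w)))
        ((CohB1.tensorMod P ((Scheme.Modules.pullback q).obj G)).presheaf.stalk w) :=
      FlatMod.moduleStalkOver (q ≫ h) (CohB1.tensorMod P ((Scheme.Modules.pullback q).obj G)) w
    IsScalarTower (Z.presheaf.stalk (h (q w))) (Y.presheaf.stalk (q w)) (G.presheaf.stalk (q w)) ∧
    ∃ _ : IsScalarTower (Z.presheaf.stalk (h (q w))) (Y.presheaf.stalk (q w)) (P.presheaf.stalk w),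
    Nonempty ((CohB1.tensorMod P ((Scheme.Modules.pullback q).obj G)).presheaf.stalk w
      ≃ₗ[Z.presheaf.stalk (h (q w))] P.presheaf.stalk w ⊗[Y.presheaf.stalk (q w)] G.presheaf.stalk (q w)) := by
  let S := W.presheaf.stalk w
  let A := Y.presheaf.stalk (q w)
  let R := Z.presheaf.stalk (h (q w))
  letI := (q.stalkMap w).hom.toAlgebra
  letI := (h.stalkMap (q w)).hom.toAlgebra
  letI : Algebra R S := ((q ≫ h).stalkMap w).hom.toAlgebra
  letI := FlatMod.moduleStalkOver q P w
  letI := FlatMod.moduleStalkOver h G (q w)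
  letI : Module R (P.presheaf.stalk w) := FlatMod.moduleStalkOver (q ≫ h) P w
  letI : Module R ((CohB1.tensorMod P ((Scheme.Modules.pullback q).obj G)).presheaf.stalk w) :=
    FlatMod.moduleStalkOver (q ≫ h) (CohB1.tensorMod P ((Scheme.Modules.pullback q).obj G)) w
  haveI : IsScalarTower R A S := IsScalarTower.of_algebraMap_eq fun a => by
    show ((q ≫ h).stalkMap w).hom a = _
    rw [Scheme.Hom.stalkMap_comp]; rfl
  haveI : IsScalarTower A S (P.presheaf.stalk w) := IsScalarTower.of_algebraMap_smul fun _ _ => rfl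
  haveI : IsScalarTower R S (P.presheaf.stalk w) := IsScalarTower.of_algebraMap_smul fun _ _ => rfl
  haveI hG : IsScalarTower R A (G.presheaf.stalk (q w)) := IsScalarTower.of_algebraMap_smul fun _ _ => rfl
  haveI hP : IsScalarTower R A (P.presheaf.stalk w) := IsScalarTower.of_algebraMap_smul fun r p => by
    rw [← IsScalarTower.algebraMap_smul S (algebraMap R A r) p, ← IsScalarTower.algebraMap_apply R A S,
      IsScalarTower.algebraMap_smul]
  haveI : IsScalarTower R S ((CohB1.tensorMod P ((Scheme.Modules.pullback q).obj G)).presheaf.stalk w) :=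
    IsScalarTower.of_algebraMap_smul fun _ _ => rfl
  let e₀ : ((Scheme.Modules.pullback q).obj G).presheaf.stalk w ≃ₗ[S] (S ⊗[A] G.presheaf.stalk (q w)) :=
    ((KFlatLib.stalkPullbackIso q w).app G).toLinearEquiv
  let e₁ : (P.presheaf.stalk w ⊗[S] ((Scheme.Modules.pullback q).obj G).presheaf.stalk w) ≃ₗ[S]
      (CohB1.tensorMod P ((Scheme.Modules.pullback q).obj G)).presheaf.stalk w :=
    (KFlatLib.stalkTensorIso w P ((Scheme.Modules.pullback q).obj G)).toLinearEquiv
  let e : (CohB1.tensorMod P ((Scheme.Modules.pullback q).obj G)).presheaf.stalk w ≃ₗ[S]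
      P.presheaf.stalk w ⊗[A] G.presheaf.stalk (q w) :=
    e₁.symm ≪≫ₗ TensorProduct.congr (LinearEquiv.refl S _) e₀ ≪≫ₗ
      AlgebraTensorModule.cancelBaseChange A S S (P.presheaf.stalk w) (G.presheaf.stalk (q w))
  exact ⟨hG, hP, ⟨e.restrictScalars R⟩⟩

theorem isFlatOverAt_tensor (hP : FlatMod.IsFlatOverAt q P w) (hG : FlatMod.IsFlatOverAt h G (q w)) :
    FlatMod.IsFlatOverAt (q ≫ h) (CohB1.tensorMod P ((Scheme.Modules.pullback q).obj G)) w := by
  letI := (q.stalkMap w).hom.toAlgebra
  letI := (h.stalkMap (q w)).hom.toAlgebra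
  letI := FlatMod.moduleStalkOver q P w
  letI := FlatMod.moduleStalkOver h G (q w)
  letI : Module (Z.presheaf.stalk (h (q w))) (P.presheaf.stalk w) := FlatMod.moduleStalkOver (q ≫ h) P w
  letI : Module (Z.presheaf.stalk (h (q w)))
      ((CohB1.tensorMod P ((Scheme.Modules.pullback q).obj G)).presheaf.stalk w) :=
    FlatMod.moduleStalkOver (q ≫ h) (CohB1.tensorMod P ((Scheme.Modules.pullback q).obj G)) w
  obtain ⟨i₁, i₂, ⟨e⟩⟩ := exists_stalk_equiv q h P G w
  haveI : Module.Flat (Y.presheaf.stalk (q w)) (P.presheaf.stalk w) := hP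
  haveI : Module.Flat (Z.presheaf.stalk (h (q w))) (G.presheaf.stalk (q w)) := hG
  haveI := flat_tensor (R := Z.presheaf.stalk (h (q w))) (A := Y.presheaf.stalk (q w))
    (P := P.presheaf.stalk w) (G := G.presheaf.stalk (q w))
  exact (Module.Flat.of_linearEquiv e :)

theorem of_tensor (hP : FlatMod.IsFlatOverAt q P w)
    (hne : letI := FlatMod.moduleStalkOver q P w
      IsLocalRing.maximalIdeal (Y.presheaf.stalk (q w)) •
        (⊤ : Submodule (Y.presheaf.stalk (q w)) (P.presheaf.stalk w)) ≠ ⊤) :
    (FlatMod.IsFlatOverAt (q ≫ h) (CohB1.tensorMod P ((Scheme.Modules.pullback q).obj G)) w →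
      FlatMod.IsFlatOverAt h G (q w)) ∧
    (letI := FlatMod.moduleStalkOver h G (q w);
      IsLocalRing.maximalIdeal (Z.presheaf.stalk (h (q w))) •
          (⊤ : Submodule (Z.presheaf.stalk (h (q w))) (G.presheaf.stalk (q w))) ≠ ⊤ →
        (letI := FlatMod.moduleStalkOver (q ≫ h) (CohB1.tensorMod P ((Scheme.Modules.pullback q).obj G)) w;
         IsLocalRing.maximalIdeal (Z.presheaf.stalk ((q ≫ h) w)) •
          (⊤ : Submodule (Z.presheaf.stalk ((q ≫ h) w))
            ((CohB1.tensorMod P ((Scheme.Modules.pullback q).obj G)).presheaf.stalk w)) ≠ ⊤)) := by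
  letI := (q.stalkMap w).hom.toAlgebra
  letI := (h.stalkMap (q w)).hom.toAlgebra
  letI := FlatMod.moduleStalkOver q P w
  letI := FlatMod.moduleStalkOver h G (q w)
  letI : Module (Z.presheaf.stalk (h (q w))) (P.presheaf.stalk w) := FlatMod.moduleStalkOver (q ≫ h) P w
  letI : Module (Z.presheaf.stalk (h (q w)))
      ((CohB1.tensorMod P ((Scheme.Modules.pullback q).obj G)).presheaf.stalk w) :=
    FlatMod.moduleStalkOver (q ≫ h) (CohB1.tensorMod P ((Scheme.Modules.pullback q).obj G)) w
  obtain ⟨i₁, i₂, ⟨e⟩⟩ := exists_stalk_equiv q h P G w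
  haveI : Module.Flat (Y.presheaf.stalk (q w)) (P.presheaf.stalk w) := hP
  haveI := faithfullyFlat_of_smul_ne_top hne
  refine ⟨fun hT => ?_, fun hG => ?_⟩
  · haveI : Module.Flat (Z.presheaf.stalk (h (q w)))
        ((CohB1.tensorMod P ((Scheme.Modules.pullback q).obj G)).presheaf.stalk w) := hT
    haveI := Module.Flat.of_linearEquiv e.symm
    exact flat_of_tensor (R := Z.presheaf.stalk (h (q w))) (A := Y.presheaf.stalk (q w))
      (P := P.presheaf.stalk w) (G := G.presheaf.stalk (q w))
  · intro hT
    refine smul_top_ne_top_tensor (P := P.presheaf.stalk w) (A := Y.presheaf.stalk (q w)) _ hG ?_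
    have := congrArg (Submodule.map e.toLinearMap) hT
    rw [Submodule.map_smul'', Submodule.map_top, LinearEquiv.range] at this
    exact this

theorem smul_ne_top_of_tensor
    (hne : letI := FlatMod.moduleStalkOver (q ≫ h) (CohB1.tensorMod P ((Scheme.Modules.pullback q).obj G)) w
      IsLocalRing.maximalIdeal (Z.presheaf.stalk ((q ≫ h) w)) •
        (⊤ : Submodule (Z.presheaf.stalk ((q ≫ h) w))
          ((CohB1.tensorMod P ((Scheme.Modules.pullback q).obj G)).presheaf.stalk w)) ≠ ⊤) :
    letI := FlatMod.moduleStalkOver h G (q w)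
    IsLocalRing.maximalIdeal (Z.presheaf.stalk (h (q w))) •
      (⊤ : Submodule (Z.presheaf.stalk (h (q w))) (G.presheaf.stalk (q w))) ≠ ⊤ := by
  letI := (q.stalkMap w).hom.toAlgebra
  letI := (h.stalkMap (q w)).hom.toAlgebra
  letI := FlatMod.moduleStalkOver q P w
  letI := FlatMod.moduleStalkOver h G (q w)
  letI : Module (Z.presheaf.stalk (h (q w))) (P.presheaf.stalk w) := FlatMod.moduleStalkOver (q ≫ h) P w
  letI : Module (Z.presheaf.stalk (h (q w)))
      ((CohB1.tensorMod P ((Scheme.Modules.pullback q).obj G)).presheaf.stalk w) :=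
    FlatMod.moduleStalkOver (q ≫ h) (CohB1.tensorMod P ((Scheme.Modules.pullback q).obj G)) w
  obtain ⟨i₁, i₂, ⟨e⟩⟩ := exists_stalk_equiv q h P G w
  refine smul_top_ne_top_of_tensor (P := P.presheaf.stalk w) (A := Y.presheaf.stalk (q w)) _ fun hT => hne ?_
  have := congrArg (Submodule.map e.symm.toLinearMap) hT
  rw [Submodule.map_smul'', Submodule.map_top, LinearEquiv.range] at this
  exact this

end Sch

end Groth.Agent.H4TensorS
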